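import Cfsg.Agent.Lib.C3.Co1

/-!
# S5210: the Fourier element of `Co₀` (kernel checks in the frame of `C3.Co1`)
-/

set_option autoImplicit false

namespace Cfsg.Agent.U4.Le

open Cfsg H2 H8
open C3 (PI F3 vv tbl Gr chkL chk9 chkS)

def w0 : PI → GolayPt → ℤ := tbl 0x799999b997b7b79779997779b979997b7959797797779997668666648888688a88888888a86888a688888668686a86a688a888686a8aa8a886a8a86a6888888aa6866a88aa866a88b577777b77977799799977799bb77797b999997997779997486aaa866868888688888888977979779779bb997999797577b9799979757779977795998a66a68888aa668688888a8a8a6a6a8888a8688a6886a868977797779777b797b99797b977b7979979797977777b5977886888a8aa886aa8a6aa868868a8886a868a86886a88a8a6a88888866886a86888666a6a9999979757977799b999997579799759999999797777559986866aa8a86888866888aa8a8a8866888468888686888668979b99779997779977997bb9777599997b9999799b779777868a688888aa88a6a848888899979b779779775999b97779797795997975999957979997979799779997779577957775777799997599997b957999998a8a66888a6888888c8a888a868aa6a8a86a868a888688689997799757997b97799777b97977795999959777977b9977868a868888a88a4688a8a8889997b977977779b979599779797759997979959997975997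

/-- the representative in `{0, 1, -1}` -/
def lf (k : F3) : ℤ := if k = 0 then 0 else if k = 1 then 1 else -1

/-- three times the matrix of the Fourier element -/
def cF : PI → PI → ℤ
  | (some s, t, k), (some s', t', k') => if k' = k + s * s' + t * t' then -1 else 0
  | (none, t, k), (none, t', k') =>
      if t' = 0 then -lf k * lf k' - (if t = 0 ∧ k' = -k then 3 else 0)
      else (if t = t' ∧ k' = k then 3 else 0) - lf k * lf k'
  | _, _ => 0

theorem w0_chk : ∀ i, chkL (w0 i) := by decide +kernel
theorem w0_dot : ∀ i j, dotInt (w0 i) (w0 j) = Gr i j := by unfold dotInt; decide +kernel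
theorem w0_9 : chk9 w0 := by decide +kernel
theorem w0_eq : ∀ i a, 3 * w0 i a = ∑ j, cF i j * vv j a := by decide +kernel

end Cfsg.Agent.U4.Le
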